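import Groth.Agent.Lib.FanoGen.PolyMap

/-!
Parametrisation of forms containing a linear subspace, chart by chart.
-/

namespace GrothLib.FanoGen

open MvPolynomial

universe u

variable {k : Type u} [Field k] {n m d : ℕ}

/-- exponents of degree `d` -/
abbrev Expo (n d : ℕ) : Type := ↥((Finset.univ : Finset (Fin (n + 1))).finsuppAntidiag d)

theorem mem_expo {e : Fin (n + 1) →₀ ℕ} :
    e ∈ (Finset.univ : Finset (Fin (n + 1))).finsuppAntidiag d ↔ e.degree = d := by
  simp [Finset.mem_finsuppAntidiag, Finsupp.degree_eq_sum]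

/-- coefficients of a form -/
noncomputable def coeffs : LefPen.Form n k d ≃ₗ[k] (Expo n d → k) where
  toFun G c := MvPolynomial.coeff c.1 G.1
  map_add' G H := by funext c; simp
  map_smul' r G := by funext c; simp
  invFun v := ⟨∑ c : Expo n d, monomial c.1 (v c), by
    refine Submodule.sum_mem _ fun c _ => ?_
    exact isHomogeneous_monomial _ (mem_expo.mp c.2)⟩
  left_inv G := by
    apply Subtype.ext
    simp only
    refine MvPolynomial.ext _ _ fun e => ?_
    by_cases he : e.degree = d
    · rw [coeff_sum, Finset.sum_eq_single (⟨e, mem_expo.mpr he⟩ : Expo n d)]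
      · simp
      · intro c _ hc
        rw [coeff_monomial, if_neg]
        exact fun h => hc (Subtype.ext h)
      · simp
    · rw [coeff_sum, IsHomogeneous.coeff_eq_zero G.2 he]
      refine Finset.sum_eq_zero fun c _ => ?_
      rw [coeff_monomial, if_neg]
      intro h
      exact he (h ▸ mem_expo.mp c.2)
  right_inv v := by
    funext c
    simp only [coeff_sum]
    rw [Finset.sum_eq_single c]
    · simp
    · intro b _ hb
      rw [coeff_monomial, if_neg]
      exact fun h => hb (Subtype.ext h)
    · simp

variable (J : Fin (m + 1) ↪ Fin (n + 1))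

/-- coordinates off the chart -/
abbrev Off : Type := {i : Fin (n + 1) // ∀ j, J j ≠ i}

/-- exponents involving a coordinate off the chart -/
abbrev Out (d : ℕ) : Type := {c : Expo n d // ∃ i : Off J, c.1 i.1 ≠ 0}

/-- parameters of a chart -/
abbrev Par (d : ℕ) : Type := (Off J × Fin (m + 1)) ⊕ Out J d

/-- the shearing substitution with slopes in any ring -/
noncomputable def shear {R : Type*} [CommRing R] (y : Off J × Fin (m + 1) → R) (i : Fin (n + 1)) :
    MvPolynomial (Fin (n + 1)) R :=
  if h : ∀ j, J j ≠ i then X i + ∑ j, C (y (⟨i, h⟩, j)) * X (J j) else X i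

theorem shear_comp {R : Type*} [CommRing R] (y : Off J × Fin (m + 1) → R) (p : MvPolynomial (Fin (n + 1)) R) :
    aeval (shear J (-y)) (aeval (shear J y) p) = p := by
  have hJ : ∀ j, shear J (-y) (J j) = X (J j) := fun j => by
    rw [shear, dif_neg]
    exact fun h => h j rfl
  have : (aeval (shear J (-y))).comp (aeval (shear J y)) = AlgHom.id R _ := by
    refine algHom_ext fun i => ?_
    rw [AlgHom.comp_apply, aeval_X, AlgHom.id_apply]
    by_cases h : ∀ j, J j ≠ i
    · conv_lhs => rw [shear, dif_pos h]
      rw [map_add, map_sum, aeval_X, shear, dif_pos h]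
      simp only [map_mul, aeval_C, aeval_X, hJ, MvPolynomial.algebraMap_eq, Pi.neg_apply, map_neg, neg_mul,
        Finset.sum_neg_distrib]
      abel
    · rw [shear, dif_neg h, aeval_X, shear, dif_neg h]
  exact congr($this p)

/-- the chart map, coordinate by coordinate -/
noncomputable def chartMap (c : Expo n d) : MvPolynomial (Par J d) k :=
  MvPolynomial.coeff c.1 (∑ e : Out J d, C (X (Sum.inr e)) *
    aeval (shear J (-fun q => (X (Sum.inl q) : MvPolynomial (Par J d) k))) (monomial e.1.1 (1 : MvPolynomial (Par J d) k)))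

/-- the spanning vectors of the subspace of a parameter -/
noncomputable def rows (y : Off J × Fin (m + 1) → k) (j : Fin (m + 1)) : Fin (n + 1) → k :=
  fun i => if h : ∀ l, J l ≠ i then y (⟨i, h⟩, j) else if J j = i then 1 else 0

omit J in
theorem exists_chart (U : Submodule k (Fin (n + 1) → k)) (hU : Module.finrank k U = m + 1) :
    ∃ (J : Fin (m + 1) ↪ Fin (n + 1)) (y : Off J × Fin (m + 1) → k),
      (∀ j, rows J y j ∈ U) ∧ U = Submodule.span k (Set.range (rows J y)) := by
  classical
  let π : Fin (n + 1) → Module.Dual k U := fun i => (LinearMap.proj i).comp U.subtype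
  obtain ⟨κ, a, ha, hspan, hli⟩ := exists_linearIndependent' k π
  have : Finite κ := Finite.of_injective a ha
  have : Fintype κ := Fintype.ofFinite κ
  have htop : Submodule.span k (Set.range π) = ⊤ := by
    refine Submodule.eq_top_of_finrank_eq ?_
    apply le_antisymm (Submodule.finrank_le _)
    have hinj : Function.Injective
        (LinearMap.pi (fun i : Fin (n + 1) => (LinearMap.proj i).comp U.subtype) : U →ₗ[k] Fin (n + 1) → k) :=
      fun x y h => Subtype.ext h
    by_contra hcon
    rw [not_le] at hcon
    obtain ⟨ψ, hψ, hψker⟩ := Submodule.exists_le_ker_of_lt_top (Submodule.span k (Set.range π))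
      (lt_top_iff_ne_top.mpr fun h => by rw [h, finrank_top] at hcon; exact lt_irrefl _ hcon)
    obtain ⟨u, hu⟩ := (Module.evalEquiv k U).surjective ψ
    apply hψ
    rw [← hu]
    have : u = 0 := hinj (funext fun i => by
      have := hψker (Submodule.subset_span ⟨i, rfl⟩)
      rw [LinearMap.mem_ker, ← hu] at this
      simpa [π] using this)
    rw [this, map_zero]
  have hκ : Fintype.card κ = m + 1 := by
    have := finrank_span_eq_card hli
    rw [hspan, htop, finrank_top, Subspace.dual_finrank_eq, hU] at this
    omega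
  let e : Fin (m + 1) ≃ κ := (finCongr hκ.symm).trans (Fintype.equivFin κ).symm
  let J : Fin (m + 1) ↪ Fin (n + 1) := ⟨a ∘ e, ha.comp e.injective⟩
  let L : U →ₗ[k] (Fin (m + 1) → k) := LinearMap.pi fun j => π (J j)
  have hLinj : Function.Injective L := by
    rw [injective_iff_map_eq_zero]
    intro u hu
    refine (Module.forall_dual_apply_eq_zero_iff k u).mp fun ψ => ?_
    have hψ : ψ ∈ Submodule.span k (Set.range (π ∘ a)) := by rw [hspan, htop]; trivial
    induction hψ using Submodule.span_induction with
    | mem x hx =>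
      obtain ⟨c, rfl⟩ := hx
      have := congrFun hu (e.symm c)
      simpa [L, J] using this
    | zero => simp
    | add x y _ _ hx hy => simp [hx, hy]
    | smul r x _ hx => simp [hx]
  let Le : U ≃ₗ[k] (Fin (m + 1) → k) := LinearEquiv.ofBijective L ⟨hLinj,
    (LinearMap.injective_iff_surjective_of_finrank_eq_finrank (by rw [hU, Module.finrank_fin_fun])).mp hLinj⟩
  let b : Fin (m + 1) → U := fun j => Le.symm (Pi.single j 1)
  let y : Off J × Fin (m + 1) → k := fun q => (b q.2 : Fin (n + 1) → k) q.1.1
  have hb : ∀ j, rows J y j = (b j : Fin (n + 1) → k) := by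
    intro j
    funext i
    by_cases h : ∀ l, J l ≠ i
    · simp only [rows, dif_pos h, y]
    · simp only [rows, dif_neg h]
      push Not at h
      obtain ⟨l, rfl⟩ := h
      have := congrFun (Le.apply_symm_apply (Pi.single j 1)) l
      simp only [Le, LinearEquiv.ofBijective_apply, L, LinearMap.pi_apply] at this
      change (if J j = J l then (1 : k) else 0) = π (J l) (b j)
      rw [show π (J l) (b j) = _ from this]
      simp [Pi.single_apply, eq_comm]
  refine ⟨J, y, fun j => by rw [hb]; exact (b j).2, le_antisymm ?_ ?_⟩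
  · intro u hu
    have : (⟨u, hu⟩ : U) = ∑ j, Le ⟨u, hu⟩ j • b j := by
      apply Le.injective
      simp only [map_sum, map_smul, b, LinearEquiv.apply_symm_apply]
      funext l
      simp [Pi.single_apply, Finset.sum_apply]
    rw [show u = ((⟨u, hu⟩ : U) : Fin (n + 1) → k) from rfl, this, Submodule.coe_sum]
    exact Submodule.sum_mem _ fun j _ => Submodule.smul_mem _ _ (Submodule.subset_span ⟨j, hb j⟩)
  · rw [Submodule.span_le]
    rintro _ ⟨j, rfl⟩
    rw [hb]; exact (b j).2

theorem coeff_eq_zero_of_vanish [Infinite k] (p : MvPolynomial (Fin (n + 1)) k)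
    (hp : ∀ x : Fin (n + 1) → k, (∀ i, (∀ j, J j ≠ i) → x i = 0) → eval x p = 0)
    (e : Fin (n + 1) →₀ ℕ) (he : ∀ i, (∀ j, J j ≠ i) → e i = 0) : p.coeff e = 0 := by
  classical
  let ρ : MvPolynomial (Fin (n + 1)) k →ₐ[k] MvPolynomial (Fin (n + 1)) k :=
    aeval fun i => if ∀ j, J j ≠ i then 0 else X i
  have hzero : ρ p = 0 := by
    refine MvPolynomial.funext fun x => ?_
    rw [map_zero]
    have : eval x (ρ p) = eval (fun i => if ∀ j, J j ≠ i then 0 else x i) p := by
      have h : (eval x).comp ρ.toRingHom = eval (fun i => if ∀ j, J j ≠ i then 0 else x i) := by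
        refine MvPolynomial.ringHom_ext (fun r => by simp) fun i => ?_
        by_cases hi : ∀ j, J j ≠ i
        · simp [ρ, if_pos hi]
        · simp [ρ, if_neg hi]
      exact congr($h p)
    rw [this]
    exact hp _ fun i hi => if_pos hi
  have hcoeff : ∀ q : MvPolynomial (Fin (n + 1)) k, (ρ q).coeff e = q.coeff e := by
    intro q
    induction q using MvPolynomial.induction_on' with
    | add u v hu hv => rw [map_add, coeff_add, coeff_add, hu, hv]
    | monomial s a =>
      rw [show ρ (monomial s a) = C a * ∏ i, (if ∀ j, J j ≠ i then (0 : MvPolynomial (Fin (n + 1)) k) else X i) ^ s i by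
        simp only [ρ, aeval_monomial, MvPolynomial.algebraMap_eq]
        rw [Finsupp.prod_fintype _ _ (fun i => pow_zero _)]]
      by_cases hs : ∀ i, (∀ j, J j ≠ i) → s i = 0
      · rw [Finset.prod_congr rfl (fun i _ => show (if ∀ j, J j ≠ i then (0 : MvPolynomial (Fin (n + 1)) k) else X i) ^ s i =
            X i ^ s i by
          by_cases hi : ∀ j, J j ≠ i
          · rw [hs i hi, pow_zero, pow_zero]
          · rw [if_neg hi]),
          ← Finsupp.prod_fintype s (fun i k_1 => (X i : MvPolynomial (Fin (n + 1)) k) ^ k_1) (fun i => pow_zero _),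
          ← monomial_eq]
      · push Not at hs
        obtain ⟨i, hi, hsi⟩ := hs
        rw [Finset.prod_eq_zero (Finset.mem_univ i) (by rw [if_pos hi, zero_pow hsi]), mul_zero, coeff_zero,
          coeff_monomial, if_neg]
        rintro rfl
        exact hsi (he i hi)
  rw [← hcoeff, hzero, coeff_zero]

/-- Every form containing the subspace of a chart comes from a parameter. -/
theorem exists_param [Infinite k] (y : Off J × Fin (m + 1) → k) (G : LefPen.Form n k d)
    (hG : ∀ u ∈ Submodule.span k (Set.range (rows J y)), eval u G.1 = 0) :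
    ∃ p : Par J d → k, (∀ q, p (Sum.inl q) = y q) ∧ ∀ c, eval p (chartMap J c) = coeffs G c := by
  classical
  set G' := aeval (shear J y) G.1 with hG'
  have hhom : G'.IsHomogeneous d := by
    have hs : ∀ i, (shear J y i).IsHomogeneous 1 := by
      intro i
      rw [shear]
      split_ifs
      · exact (isHomogeneous_X k i).add (IsHomogeneous.sum _ _ _ fun j _ => (isHomogeneous_X k _).C_mul _)
      · exact isHomogeneous_X k i
    simpa [hG'] using IsHomogeneous.aeval G.2 (shear J y) hs
  have hvan : ∀ e : Fin (n + 1) →₀ ℕ, (∀ i, (∀ j, J j ≠ i) → e i = 0) → G'.coeff e = 0 := by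
    refine coeff_eq_zero_of_vanish J G' fun x hx => ?_
    have hsub : eval x G' = eval (fun i => eval x (shear J y i)) G.1 := by
      have h : (eval x).comp (aeval (shear J y)).toRingHom = eval (fun i => eval x (shear J y i)) :=
        MvPolynomial.ringHom_ext (fun r => by simp) fun i => by simp
      exact congr($h G.1)
    rw [hsub]
    refine hG _ ?_
    have : (fun i => eval x (shear J y i)) = ∑ j, x (J j) • rows J y j := by
      funext i
      simp only [Finset.sum_apply, Pi.smul_apply, smul_eq_mul]
      by_cases h : ∀ j, J j ≠ i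
      · simp only [shear, dif_pos h, rows, map_add, map_sum, map_mul, eval_C, eval_X, hx i h, zero_add]
        exact Finset.sum_congr rfl fun j _ => mul_comm _ _
      · simp only [shear, dif_neg h, rows, eval_X]
        push Not at h
        obtain ⟨l, rfl⟩ := h
        simp
    rw [this]
    exact Submodule.sum_mem _ fun j _ => Submodule.smul_mem _ _ (Submodule.subset_span ⟨j, rfl⟩)
  let p : Par J d → k := Sum.elim y fun e => G'.coeff e.1.1
  refine ⟨p, fun q => rfl, fun c => ?_⟩
  have hsum : G' = ∑ e : Out J d, C (G'.coeff e.1.1) * monomial e.1.1 1 := by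
    refine MvPolynomial.ext _ _ fun s => ?_
    simp only [coeff_sum, C_mul_monomial, mul_one, coeff_monomial]
    by_cases hs : s.degree = d ∧ ∃ i : Off J, s i.1 ≠ 0
    · rw [Finset.sum_eq_single (⟨⟨s, mem_expo.mpr hs.1⟩, hs.2⟩ : Out J d)]
      · simp
      · intro b _ hb
        rw [if_neg]
        intro h
        exact hb (Subtype.ext (Subtype.ext h))
      · simp
    · have hne : ∀ b : Out J d, b.1.1 ≠ s := by
        rintro b rfl
        exact hs ⟨mem_expo.mp b.1.2, b.2⟩
      rw [Finset.sum_eq_zero fun b _ => if_neg (hne b)]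
      by_cases hd : s.degree = d
      · refine hvan s fun i hi => ?_
        by_contra hne
        exact hs ⟨hd, ⟨i, hi⟩, hne⟩
      · exact hhom.coeff_eq_zero hd
  have hrec : G.1 = ∑ e : Out J d, C (G'.coeff e.1.1) * aeval (shear J (-y)) (monomial e.1.1 (1 : k)) := by
    conv_lhs => rw [← shear_comp J y G.1, ← hG', hsum, map_sum]
    simp only [map_mul, aeval_C, MvPolynomial.algebraMap_eq]
  show eval p (chartMap J c) = MvPolynomial.coeff c.1 G.1
  rw [chartMap, ← coeff_map, map_sum, hrec]
  congr 1
  refine Finset.sum_congr rfl fun e _ => ?_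
  rw [map_mul, map_C, eval_X]
  congr 1
  have h : (MvPolynomial.map (σ := Fin (n + 1)) (eval p)).comp
      (aeval (shear J (-fun q => (X (Sum.inl q) : MvPolynomial (Par J d) k)))).toRingHom =
      (aeval (shear J (-y))).toRingHom.comp (MvPolynomial.map (eval p)) := by
    refine MvPolynomial.ringHom_ext (fun r => by simp) fun i => ?_
    by_cases hi : ∀ j, J j ≠ i
    · simp [shear, dif_pos hi, p]
    · simp [shear, dif_neg hi]
  have h2 := congr($h (monomial e.1.1 1))
  simpa [MvPolynomial.map_monomial] using h2

theorem card_par :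
    Fintype.card (Par J d) + (m + d).choose m = Fintype.card (Expo n d) + (n - m) * (m + 1) := by
  classical
  have h1 : Fintype.card (Off J) = n - m := by
    rw [Fintype.card_subtype]
    have : (Finset.univ.filter fun i => ∀ j, J j ≠ i) = (Finset.univ.map J)ᶜ := by ext i; simp
    rw [this, Finset.card_compl, Finset.card_map, Finset.card_univ, Fintype.card_fin, Fintype.card_fin]
    omega
  have h2 : Fintype.card {c : Expo n d // ¬ ∃ i : Off J, c.1 i.1 ≠ 0} = (m + d).choose m := by
    let T := Finset.univ.map J
    have hT : T.card = m + 1 := by simp [T]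
    rw [show (m + d).choose m = (T.finsuppAntidiag d).card by
      rw [Finset.card_finsuppAntidiag_nat_eq_choose, hT, show m + 1 + d - 1 = m + d by omega]
      exact Nat.choose_symm_add]
    rw [← Fintype.card_coe]
    refine Fintype.card_congr
      ⟨fun c => ⟨c.1.1, ?_⟩, fun e => ⟨⟨e.1, ?_⟩, ?_⟩, fun c => rfl, fun e => rfl⟩
    · rw [Finset.mem_finsuppAntidiag']
      refine ⟨?_, fun i hi => ?_⟩
      · have := (Finset.mem_finsuppAntidiag'.mp c.1.2).1
        exact this
      · have hc := c.2
        push Not at hc
        by_contra hiT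
        refine (Finsupp.mem_support_iff.mp hi) (hc ⟨i, fun j hj => hiT ?_⟩)
        simp [T, ← hj]
    · rw [Finset.mem_finsuppAntidiag']
      exact ⟨(Finset.mem_finsuppAntidiag'.mp e.2).1, Finset.subset_univ _⟩
    · rintro ⟨⟨i, hi⟩, hne⟩
      have := (Finset.mem_finsuppAntidiag'.mp e.2).2 (Finsupp.mem_support_iff.mpr hne)
      simp only [T, Finset.mem_map, Finset.mem_univ, true_and] at this
      obtain ⟨j, hj⟩ := this
      exact hi j hj
  rw [Fintype.card_sum, Fintype.card_prod, h1, Fintype.card_fin]
  have h3 := Fintype.card_subtype_compl (fun c : Expo n d => ∃ i : Off J, c.1 i.1 ≠ 0)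
  have h4 := Fintype.card_subtype_le (fun c : Expo n d => ∃ i : Off J, c.1 i.1 ≠ 0)
  simp only [Out, Fintype.card_eq_nat_card] at h2 h3 h4 ⊢
  omega

omit J in
theorem isGeneric_no_subspace [Infinite k] (h : (m + 1) * (n - m) < Nat.choose (m + d) m) :
    LefPen.IsGeneric k {G : LefPen.Form n k d | ∀ U : Submodule k (Fin (n + 1) → k),
      Module.finrank k ↥U = m + 1 → (∀ u ∈ U, eval u G.1 = 0) → False} := by
  classical
  have hlt : ∀ J : Fin (m + 1) ↪ Fin (n + 1), Fintype.card (Par J d) < Fintype.card (Expo n d) := fun J => by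
    have := card_par (d := d) J
    rw [mul_comm] at h
    omega
  choose P hP hmiss using fun J => exists_missed (hlt J) (fun c => chartMap (k := k) J c)
  refine isGeneric_of_poly coeffs (∏ J, P J) (Finset.prod_ne_zero_iff.mpr fun J _ => hP J) _ fun G hG => ?_
  intro U hU hvan
  obtain ⟨J, y, -, rfl⟩ := exists_chart U hU
  obtain ⟨p, -, hp⟩ := exists_param J y G hvan
  rw [map_prod, Finset.prod_ne_zero_iff] at hG
  exact hmiss J _ (hG J (Finset.mem_univ J)) p hp

omit J in
theorem isGeneric_finite_subspaces [Infinite k] (h : (m + 1) * (n - m) ≤ Nat.choose (m + d) m) :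
    LefPen.IsGeneric k {G : LefPen.Form n k d |
      {U : Submodule k (Fin (n + 1) → k) | Module.finrank k ↥U = m + 1 ∧ ∀ u ∈ U, eval u G.1 = 0}.Finite} := by
  classical
  have hle : ∀ J : Fin (m + 1) ↪ Fin (n + 1), Fintype.card (Par J d) ≤ Fintype.card (Expo n d) := fun J => by
    have := card_par (d := d) J
    rw [mul_comm] at h
    omega
  choose P hP hfin using fun J => exists_finite_fibres (hle J) (fun c => chartMap (k := k) J c)
  refine isGeneric_of_poly coeffs (∏ J, P J) (Finset.prod_ne_zero_iff.mpr fun J _ => hP J) _ fun G hG => ?_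
  rw [map_prod, Finset.prod_ne_zero_iff] at hG
  have hF : ∀ J : Fin (m + 1) ↪ Fin (n + 1),
      ((fun p : Par J d → k => Submodule.span k (Set.range (rows J fun q => p (Sum.inl q)))) ''
        {p | ∀ c, eval p (chartMap J c) = coeffs G c}).Finite :=
    fun J => (hfin J _ (hG J (Finset.mem_univ J))).image _
  have : Finite (Fin (m + 1) ↪ Fin (n + 1)) := inferInstance
  refine Set.Finite.subset (Set.finite_iUnion hF) ?_
  rintro U ⟨hU, hvan⟩
  obtain ⟨J, y, -, hspan⟩ := exists_chart U hU
  subst hspan
  obtain ⟨p, hy, hp⟩ := exists_param J y G hvan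
  have hyy : (fun q => p (Sum.inl q)) = y := funext hy
  refine Set.mem_iUnion.mpr ⟨J, ?_⟩
  rw [← hyy]
  exact ⟨p, hp, rfl⟩

end GrothLib.FanoGen
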