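import Mathlib
import Groth.Prelude.Def_LefPen

/-!
Genericity through polynomial maps: a polynomial map from fewer parameters misses a nonempty open set,
and one from at most as many has finite fibres over a nonempty open set.
-/

namespace GrothLib.FanoGen

open MvPolynomial

universe u

variable {k : Type u} [Field k]

/-- Generic finiteness. -/
theorem exists_finite_fibres {ι κ : Type} [Fintype ι] [Fintype κ] (hle : Fintype.card ι ≤ Fintype.card κ)
    (φ : κ → MvPolynomial ι k) :
    ∃ P : MvPolynomial κ k, P ≠ 0 ∧ ∀ v : κ → k, eval v P ≠ 0 →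
      {y : ι → k | ∀ c, eval y (φ c) = v c}.Finite := by
  classical
  have hQ : ∀ i : ι, ∃ a : MvPolynomial κ k, ∃ Q : Polynomial (MvPolynomial κ k), a ≠ 0 ∧
      Q.leadingCoeff = a ∧ (Q.map (aeval φ).toRingHom).eval (X i) = 0 := by
    intro i
    have hni : ¬ AlgebraicIndependent k (fun o : Option κ => o.elim (X i) φ) := by
      intro h
      have := h.lift_cardinalMk_le_trdeg
      rw [MvPolynomial.trdeg_of_isDomain] at this
      simp [Cardinal.mk_fintype] at this
      have h2 : Fintype.card κ + 1 ≤ Fintype.card ι := by exact_mod_cast this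
      omega
    rw [algebraicIndependent_iff] at hni
    push Not at hni
    obtain ⟨q, hq, hq0⟩ := hni
    refine ⟨_, optionEquivLeft k κ q, ?_, rfl, ?_⟩
    · rw [Ne, Polynomial.leadingCoeff_eq_zero, EmbeddingLike.map_eq_zero_iff]
      exact hq0
    · rw [← hq, Polynomial.eval_map]
      have : (Polynomial.eval₂RingHom (aeval φ).toRingHom (X i)).comp
          (optionEquivLeft k κ).toAlgHom.toRingHom =
          (aeval (fun o : Option κ => o.elim (X i) φ)).toRingHom := by
        refine MvPolynomial.ringHom_ext (fun r => ?_) fun o => ?_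
        · simp [optionEquivLeft_apply]
        · cases o <;> simp [optionEquivLeft_apply]
      exact congr($this q)
  choose a Q ha hlead hroot using hQ
  refine ⟨∏ i, a i, Finset.prod_ne_zero_iff.mpr fun i _ => ha i, fun v hv => ?_⟩
  rw [map_prod, Finset.prod_ne_zero_iff] at hv
  refine (Set.Finite.pi (t := fun i => (((Q i).map (eval v)).rootSet k : Set k))
    fun i => Polynomial.rootSet_finite _ _).subset ?_
  intro y hy i _
  simp only [Set.mem_setOf_eq] at hy
  have hne : (Q i).map (eval v) ≠ 0 := fun h => by
    have := congrArg (fun p => p.coeff (Q i).natDegree) h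
    simp only [Polynomial.coeff_map, Polynomial.coeff_zero] at this
    exact hv i (Finset.mem_univ i) (by rw [← hlead]; exact this)
  refine (Polynomial.mem_rootSet_of_ne hne).mpr ?_
  have hcomp : (eval y).comp (aeval φ).toRingHom = eval v := by
    refine MvPolynomial.ringHom_ext (fun r => by simp) fun c => by simp [hy c]
  have h := congrArg (eval y) (hroot i)
  rw [map_zero, Polynomial.eval_map, Polynomial.hom_eval₂, hcomp, eval_X] at h
  simpa [Polynomial.eval_map] using h

/-- Too few parameters. -/
theorem exists_missed {ι κ : Type} [Fintype ι] [Fintype κ] (hlt : Fintype.card ι < Fintype.card κ)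
    (φ : κ → MvPolynomial ι k) :
    ∃ P : MvPolynomial κ k, P ≠ 0 ∧ ∀ v : κ → k, eval v P ≠ 0 → ∀ y : ι → k, ¬ ∀ c, eval y (φ c) = v c := by
  have hni : ¬ AlgebraicIndependent k φ := by
    intro h
    have := h.lift_cardinalMk_le_trdeg
    rw [MvPolynomial.trdeg_of_isDomain] at this
    simp [Cardinal.mk_fintype] at this
    omega
  rw [algebraicIndependent_iff] at hni
  push Not at hni
  obtain ⟨P, hP, hP0⟩ := hni
  refine ⟨P, hP0, fun v hv y hy => hv ?_⟩
  have : (aeval y).comp (aeval φ) = (aeval v : MvPolynomial κ k →ₐ[k] k) := by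
    refine algHom_ext fun c => ?_
    simp [← hy c, aeval_eq_eval]
  rw [← aeval_eq_eval, ← this, AlgHom.comp_apply, hP, map_zero]

/-- A nonzero polynomial in coordinates defines a generic condition. -/
theorem isGeneric_of_poly [Infinite k] {κ : Type} [Fintype κ] {V : Type u} [AddCommGroup V] [Module k V]
    (e : V ≃ₗ[k] (κ → k)) (P : MvPolynomial κ k) (hP : P ≠ 0) (S : Set V)
    (hS : ∀ v, eval (e v) P ≠ 0 → v ∈ S) : LefPen.IsGeneric k S := by
  refine ⟨fun v => eval (e v) P, ?_, ?_, hS⟩
  · have : (fun v => eval (e v) P) = aeval (fun c : κ => fun v : V => e v c) P := by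
      funext v
      let ev : (V → k) →ₐ[k] k := Pi.evalAlgHom k (fun _ : V => k) v
      have h : ev.comp (aeval fun c : κ => fun v : V => e v c) = aeval (e v) :=
        algHom_ext fun c => by simp [ev]
      exact (congr($h P)).symm
    rw [LefPen.IsPolyFun, this]
    exact isGeneric_of_poly.adjoin_aux e P
  · by_contra! h
    exact hP (MvPolynomial.funext fun x => by simpa using h (e.symm x))
where
  adjoin_aux {κ : Type} [Fintype κ] {V : Type u} [AddCommGroup V] [Module k V]
      (e : V ≃ₗ[k] (κ → k)) (p : MvPolynomial κ k) :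
      aeval (fun c : κ => fun v : V => e v c) p ∈
        Algebra.adjoin k (Set.range (fun l : Module.Dual k V => (l : V → k))) := by
    induction p using MvPolynomial.induction_on with
    | C a => rw [aeval_C]; exact Subalgebra.algebraMap_mem _ _
    | add p q hp hq => rw [map_add]; exact add_mem hp hq
    | mul_X p i hp =>
      rw [map_mul, aeval_X]
      exact mul_mem hp (Algebra.subset_adjoin ⟨(LinearMap.proj i).comp e.toLinearMap, rfl⟩)

end GrothLib.FanoGen
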